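import Groth.Agent.ModDesc.Descent
import Groth.Agent.LimDesc.Tower
import Groth.Agent.LimModel.FgSubalgebra
import Groth.Agent.MumBound.FieldExt
import Groth.Agent.GrothSS.ChangeRings

/-!
# Coherent modules on projective space over a field algebraic over a finite field come from a finite subfield
-/

set_option autoImplicit false
set_option backward.isDefEq.respectTransparency false
set_option backward.isDefEq.respectTransparency.types false
set_option linter.style.haveILetI false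
set_option linter.unusedSectionVars false
set_option maxHeartbeats 1000000

universe u

open CategoryTheory CategoryTheory.Limits AlgebraicGeometry

noncomputable section

namespace Groth.Agent.PicTors

open LimDesc MumBound

variable (p : ℕ) [Fact (Nat.Prime p)] (k : Type u) [Field k] [CharP k p]

/-- Finitely generated subrings of a field algebraic over its prime field are finite. -/
theorem finite_of_fg (halg : ∀ x : k, ∃ n : ℕ, 0 < n ∧ x ^ (p ^ n) = x) (B : Subalgebra ℤ k) (hB : B.FG) :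
    Finite ↥B := by
  have hp := (Fact.out : p.Prime)
  haveI : Algebra.FiniteType ℤ ↥B := (Subalgebra.fg_iff_finiteType _).mp hB
  haveI : Algebra.IsIntegral ℤ ↥B := ⟨fun x => by
    obtain ⟨n, hn, hx⟩ := halg (x : k)
    refine ⟨Polynomial.X ^ (p ^ n) - Polynomial.X, ?_, ?_⟩
    · exact Polynomial.monic_X_pow_sub (by
        rw [Polynomial.degree_X]
        exact_mod_cast Nat.one_lt_pow hn.ne' hp.one_lt)
    · refine Subtype.ext ?_
      rw [Polynomial.eval₂_sub, Polynomial.eval₂_X_pow, Polynomial.eval₂_X]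
      simp [hx]⟩
  haveI : Module.Finite ℤ ↥B := Algebra.IsIntegral.finite
  haveI : AddGroup.FG ↥B := Module.Finite.iff_addGroup_fg.mp inferInstance
  refine AddCommGroup.finite_of_fg_torsion ↥B fun x => ?_
  rw [isOfFinAddOrder_iff_nsmul_eq_zero]
  exact ⟨p, hp.pos, Subtype.ext (by simp)⟩

/-- Pullback along an isomorphism is push forward along its inverse. -/
theorem nonempty_pull_inv {X Y : Scheme.{u}} (σ : X ≅ Y) (M : X.Modules) :
    Nonempty ((Scheme.Modules.pullback σ.inv).obj M ≅ (Scheme.Modules.pushforward σ.hom).obj M) := by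
  haveI := GrothSS.isIso_counit_push σ.hom
  refine ⟨(Scheme.Modules.pullback σ.inv).mapIso
    ((asIso (Scheme.Modules.pullbackPushforwardAdjunction σ.hom).counit).app M).symm ≪≫
    (Scheme.Modules.pullbackComp σ.inv σ.hom).app _ ≪≫
    (Scheme.Modules.pullbackCongr σ.inv_hom_id).app _ ≪≫ (Scheme.Modules.pullbackId Y).app _⟩

/-- A coherent module on projective space over `k` comes, up to an automorphism, from a finite subfield. -/
theorem exists_descend (halg : ∀ x : k, ∃ n : ℕ, 0 < n ∧ x ^ (p ^ n) = x) (n : ℕ)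
    {M : (CohB1.ProjSpace n k).Modules} (hM : Coh.IsCoh M) :
    ∃ (F : Type u) (_ : Field F) (_ : Finite F) (_ : Algebra F k) (σ : CohB1.ProjSpace n k ≅ CohB1.ProjSpace n k)
      (M' : (CohB1.ProjSpace n F).Modules), σ.hom ≫ CohB1.ProjSpace.toSpec n k = CohB1.ProjSpace.toSpec n k ∧
      Coh.IsCoh M' ∧
      Nonempty ((Scheme.Modules.pullback (bcg F k n)).obj M' ≅ (Scheme.Modules.pushforward σ.hom).obj M) := by
  classical
  let B₀ : LimModel.FgSub k := ⟨⊥, Subalgebra.fg_bot⟩
  haveI := finite_of_fg p k halg B₀.1 B₀.2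
  letI : Field ↥B₀.1 := (Finite.isDomain_to_isField ↥B₀.1).toField
  let D := LimModel.fgDiagram k
  let c := LimModel.fgCone k
  haveI : IsCofiltered (LimModel.FgSub k)ᵒᵖ := isCofiltered_op_of_isFiltered _
  haveI : ∀ {i j : (LimModel.FgSub k)ᵒᵖ} (f : i ⟶ j), IsAffineHom (D.map f) := fun f =>
    inferInstanceAs (IsAffineHom ((LimModel.fgDiagram k).map f))
  let g₀ : CohB1.ProjSpace n ↥B₀.1 ⟶ D.obj (Opposite.op B₀) := CohB1.ProjSpace.toSpec n ↥B₀.1
  have hY : IsPullback (bcg ↥B₀.1 k n) (show CohB1.ProjSpace n k ⟶ c.pt from CohB1.ProjSpace.toSpec n k) g₀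
      (c.π.app (Opposite.op B₀)) := isPullback_bcg ↥B₀.1 k n
  haveI : IsNoetherian (CohB1.ProjSpace n ↥B₀.1) := CohFinite.isNoetherian_projSpace n _
  haveI : IsNoetherian (CohB1.ProjSpace n k) := CohFinite.isNoetherian_projSpace n _
  haveI : CompactSpace ((tower D g₀).obj (Over.mk (𝟙 (Opposite.op B₀)))) := compactSpace_stage D g₀ _
  haveI : QuasiSeparatedSpace ((tower D g₀).obj (Over.mk (𝟙 (Opposite.op B₀)))) := quasiSeparatedSpace_stage D g₀ _
  haveI : Coh.IsQCoh (X := (towerCone D g₀ c hY).pt) M := hM.1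
  haveI : IsNoetherian (towerCone D g₀ c hY).pt := inferInstanceAs (IsNoetherian (CohB1.ProjSpace n k))
  obtain ⟨j, -, G, hG, hGfp, ⟨e⟩⟩ := ModDesc.exists_descend (D := tower D g₀) (c := towerCone D g₀ c hY)
    (F := M) (isLimitTowerCone D g₀ c hY (LimModel.fgIsLimit k)) (QC.isFP_of_isQCoh_of_isFT (hM := hM.1) hM.2)
    (i₀ := Over.mk (𝟙 (Opposite.op B₀)))
  let B : Subalgebra ℤ k := j.left.unop.1
  haveI := finite_of_fg p k halg B j.left.unop.2
  letI : Field ↥B := (Finite.isDomain_to_isField ↥B).toField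
  letI : Algebra ↥B₀.1 ↥B := (Subalgebra.inclusion (leOfHom j.hom.unop)).toRingHom.toAlgebra
  have h₀ : IsPullback (bcg ↥B₀.1 ↥B n) (CohB1.ProjSpace.toSpec n ↥B) g₀ (D.map j.hom) := isPullback_bcg ↥B₀.1 ↥B n
  let ε := h₀.isoIsPullback _ _ (isPullback_stage D g₀ j)
  have hε : ε.hom ≫ toStage D g₀ j = CohB1.ProjSpace.toSpec n ↥B := h₀.isoIsPullback_hom_snd _ _ _
  let q : CohB1.ProjSpace n k ⟶ CohB1.ProjSpace n ↥B := proj D g₀ c hY j ≫ ε.inv
  have hq : IsPullback q (show CohB1.ProjSpace n k ⟶ c.pt from CohB1.ProjSpace.toSpec n k)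
      (show CohB1.ProjSpace n ↥B ⟶ D.obj j.left from CohB1.ProjSpace.toSpec n ↥B) (c.π.app j.left) :=
    (isPullback_proj D g₀ c hY j).of_iso (Iso.refl _) ε.symm (Iso.refl _) (Iso.refl _)
      (by simp [q]) (by simp) (by simp [← hε]) (by simp)
  let σ := IsPullback.isoIsPullback _ _ hq (isPullback_bcg ↥B k n)
  have hσ₁ : σ.hom ≫ bcg ↥B k n = q := hq.isoIsPullback_hom_fst _ _ _
  have hσ₂ : σ.hom ≫ CohB1.ProjSpace.toSpec n k = CohB1.ProjSpace.toSpec n k := hq.isoIsPullback_hom_snd _ _ _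
  let M' := (Scheme.Modules.pullback ε.hom).obj G
  haveI : IsNoetherian (CohB1.ProjSpace n ↥B) := CohFinite.isNoetherian_projSpace n _
  haveI : Coh.IsQCoh G := hG
  have hM' : Coh.IsCoh M' := ⟨QC.isQCoh_pullback _ hG, ModDesc.isFT_pullback _ hG (ModDesc.isFT_of_isFP hGfp)⟩
  let e' : (Scheme.Modules.pullback σ.hom).obj ((Scheme.Modules.pullback (bcg ↥B k n)).obj M') ≅ M :=
    (Scheme.Modules.pullbackComp _ _).app _ ≪≫ (Scheme.Modules.pullbackComp _ _).app _ ≪≫
      (Scheme.Modules.pullbackCongr (show (σ.hom ≫ bcg ↥B k n) ≫ ε.hom = proj D g₀ c hY j by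
        rw [hσ₁]; simp [q])).app _ ≪≫ e
  obtain ⟨a⟩ := nonempty_pull_inv σ M
  refine ⟨↥B, inferInstance, inferInstance, inferInstance, σ, M', hσ₂, hM', ⟨?_⟩⟩
  exact ((Scheme.Modules.pullbackId (CohB1.ProjSpace n k)).app _).symm ≪≫ (Scheme.Modules.pullbackCongr σ.inv_hom_id.symm).app _ ≪≫
    ((Scheme.Modules.pullbackComp σ.inv σ.hom).app _).symm ≪≫ (Scheme.Modules.pullback σ.inv).mapIso e' ≪≫ a

end Groth.Agent.PicTors
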