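import Groth.Agent.PicTors.Projective
import Groth.Agent.S4415
import Groth.Agent.S5683
import Groth.Agent.SymAlg.ProjProper
import Groth.Agent.TMul.RelAmple
import Groth.Agent.PicProper.Normal
import Groth.Agent.PtBlow.Rational
import Groth.Agent.Nakai.NumPull
import Groth.Agent.Nakai.AlgEquiv
import Groth.Agent.Nakai.ProjCover
import Groth.Agent.Intersect.Numer
import Groth.Agent.DerPerf.Local
import Groth.Agent.FlatDepth.Fibre

/-!
# Numerically trivial invertible modules on normal proper schemes over fields algebraic over finite fields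
-/

set_option autoImplicit false
set_option backward.isDefEq.respectTransparency false
set_option backward.isDefEq.respectTransparency.types false
set_option linter.style.haveILetI false
set_option linter.unusedSectionVars false
set_option maxHeartbeats 1000000

universe u

open CategoryTheory CategoryTheory.Limits AlgebraicGeometry TopologicalSpace

noncomputable section

namespace Groth.Agent.PicTors

attribute [local instance] Groth.Agent.Nakai.clMonoid

variable {X : Scheme.{u}}

/-- A proper modification of a normal noetherian scheme has trivial direct image. -/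
theorem bijective_app_modification [IsNoetherian X] (hX : Pi1.IsNormalScheme X) {X' : Scheme.{u}} [IsReduced X']
    (π : X' ⟶ X) [IsProper π] [Surjective π] (U : X.Opens) (hd : Dense ((π ⁻¹ᵁ U : X'.Opens) : Set X'))
    [IsIso (π ∣_ U)] (V : X.Opens) : Function.Bijective (π.app V) := by
  obtain ⟨κ, _, O, hOc, hOi, -, hOcov, hOn⟩ := PicProper.exists_components X hX
  suffices IsIso (π.app V) from ConcreteCategory.bijective_of_isIso _
  refine SteinGen.isIso_app_of_affine_cover π
    (fun W : {W : X.Opens // IsAffineOpen W ∧ ∃ c, W ≤ O c} => W.1) (fun W => W.2.1) (fun x => ?_) (fun W => ?_) V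
  · obtain ⟨c, hc⟩ := hOcov x
    obtain ⟨W, hW, hx, hWc⟩ := exists_isAffineOpen_mem_and_subset (x := x) (U := O c) hc
    exact ⟨⟨W, hW, c, hWc⟩, hx⟩
  obtain ⟨W, hW, c, hWc⟩ := W
  let C := O c
  haveI : IsIntegral (C : Scheme.{u}) := hOi c
  let g := π ∣_ C
  haveI : IsProper g := MorphismProperty.of_isPullback (P := @IsProper) (isPullback_morphismRestrict π C).flip inferInstance
  let P := π ⁻¹ᵁ C
  -- the part over `U ⊓ C`
  have hne : (C : Set X).Nonempty := by
    obtain ⟨y⟩ := (inferInstance : Nonempty (C : Scheme.{u}))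
    exact ⟨y.1, y.2⟩
  have hneP : (P : Set X').Nonempty := by
    obtain ⟨y, hy⟩ := hne
    obtain ⟨z, hz⟩ := π.surjective y
    exact ⟨z, show π z ∈ C by rw [hz]; exact hy⟩
  obtain ⟨z₀, hz₀P, hz₀U⟩ := hd.inter_open_nonempty P P.2 hneP
  let Q := C.ι ⁻¹ᵁ U
  have hQne : (Q : Set (C : Scheme.{u})).Nonempty := ⟨⟨π z₀, hz₀P⟩, hz₀U⟩
  have hQ : C.ι ''ᵁ Q ≤ U := by
    rintro _ ⟨y, hy, rfl⟩
    exact hy
  let Q' := U.ι ⁻¹ᵁ (C.ι ''ᵁ Q)
  haveI : IsIso (π ∣_ U ∣_ Q') := MorphismProperty.of_isPullback (P := MorphismProperty.isomorphisms Scheme.{u})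
    (isPullback_morphismRestrict (π ∣_ U) Q').flip (inferInstanceAs (IsIso (π ∣_ U)))
  haveI h2 : IsIso (π ∣_ (U.ι ''ᵁ Q')) := ((MorphismProperty.isomorphisms Scheme.{u}).arrow_mk_iso_iff
    (morphismRestrictRestrict π U Q')).1 (inferInstanceAs (IsIso (π ∣_ U ∣_ Q')))
  haveI : IsIso (π ∣_ (C.ι ''ᵁ Q)) := by
    rw [Scheme.Hom.image_preimage_eq_opensRange_inf, Scheme.Opens.opensRange_ι, inf_eq_right.2 hQ] at h2
    exact h2
  haveI : IsIso (g ∣_ Q) := ((MorphismProperty.isomorphisms Scheme.{u}).arrow_mk_iso_iff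
    (morphismRestrictRestrict π C Q)).2 (inferInstanceAs (IsIso (π ∣_ (C.ι ''ᵁ Q))))
  haveI : IsIntegral (P : Scheme.{u}) := by
    haveI : IsReduced (P : Scheme.{u}) := isReduced_of_isOpenImmersion P.ι
    haveI : IsIntegral ((g ⁻¹ᵁ Q : (P : Scheme.{u}).Opens) : Scheme.{u}) := by
      haveI : Nonempty (Q : Scheme.{u}) := hQne.to_subtype
      haveI : IsIntegral (Q : Scheme.{u}) := isIntegral_of_isOpenImmersion Q.ι
      haveI : Nonempty ((g ⁻¹ᵁ Q : (P : Scheme.{u}).Opens) : Scheme.{u}) := ⟨(inv (g ∣_ Q)) (Classical.arbitrary _)⟩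
      exact isIntegral_of_isOpenImmersion (g ∣_ Q)
    haveI : Nonempty (P : Scheme.{u}) := ⟨⟨z₀, hz₀P⟩⟩
    have hdP : Dense ((g ⁻¹ᵁ Q : (P : Scheme.{u}).Opens) : Set (P : Scheme.{u})) := by
      rw [show ((g ⁻¹ᵁ Q : (P : Scheme.{u}).Opens) : Set (P : Scheme.{u})) = P.ι ⁻¹' (π ⁻¹ᵁ U : X'.Opens) from
        Set.ext fun y => by
          show C.ι (g y) ∈ U ↔ π (P.ι y) ∈ U
          rw [← Scheme.Hom.comp_apply, morphismRestrict_ι, Scheme.Hom.comp_apply]]
      exact hd.preimage P.ι.isOpenEmbedding.isOpenMap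
    haveI : PreirreducibleSpace (P : Scheme.{u}) := ⟨by
      rw [← hdP.closure_eq]
      exact (isPreirreducible_iff_preirreducibleSpace.2 (inferInstance :
        PreirreducibleSpace ((g ⁻¹ᵁ Q : (P : Scheme.{u}).Opens) : Scheme.{u}))).closure⟩
    haveI : IrreducibleSpace (P : Scheme.{u}) := ⟨inferInstance⟩
    exact isIntegral_of_irreducibleSpace_of_isReduced _
  have hb := PtBlow.bijective_app_of_birational g (hOn c) Q hQne (C.ι ⁻¹ᵁ W)
  have hW' : C.ι ''ᵁ (C.ι ⁻¹ᵁ W) = W := by
    rw [Scheme.Hom.image_preimage_eq_opensRange_inf, Scheme.Opens.opensRange_ι, inf_eq_right.2 hWc]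
  show Function.Bijective (π.app W)
  rw [← hW']
  have hb' : Function.Bijective (g.app (C.ι ⁻¹ᵁ W)).hom := hb
  rw [morphismRestrict_app] at hb'
  haveI : IsIso (π.app (C.ι ''ᵁ (C.ι ⁻¹ᵁ W))) := by
    have hh := (ConcreteCategory.isIso_iff_bijective _).2 hb'
    exact @IsIso.of_isIso_comp_right _ _ _ _ _ (π.app _) _ inferInstance hh
  exact ConcreteCategory.bijective_of_isIso _

variable (k : Type u) [Field k] [X.Over (Spec (CommRingCat.of k))] [IsProper (X ↘ Spec (CommRingCat.of k))]

/-- Numerical triviality is preserved by pullback. -/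
theorem degFlat_pullback {X' : Scheme.{u}} [X'.Over (Spec (CommRingCat.of k))] [IsProper (X' ↘ Spec (CommRingCat.of k))]
    (g : X' ⟶ X) [IsProper g] (hg : g ≫ (X ↘ Spec (CommRingCat.of k)) = X' ↘ Spec (CommRingCat.of k))
    {L : X.Modules} (hL : PicF.IsInvertible L) (h : Pic13.IsNumEquivZero k X L) :
    Nakai.DegFlat k ((Scheme.Modules.pullback g).obj L) := by
  have hO := TMul.isInvertible_structureModule (X := X)
  have h0 := Nakai.isNumEquivZero_of_degFlat k hO (Nakai.degFlat_one k)
  have hn := Intersect.numEq_of_curveDeg k hL hO fun Y ι _ hY hd => (h Y ι hY hd).trans (h0 Y ι hY hd).symm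
  have hp := Nakai.numEq_pullback k g hg hL hO hn
  let e := DerPerf.pullUnitIso g
  intro F hF hd
  have h1 := Intersect.alt_numeric k 1 (fun _ => (Scheme.Modules.pullback g).obj L)
    (fun _ => (Scheme.Modules.pullback g).obj (Coh.structureModule X)) (fun _ => PicLoc.isInvertible_pullback g hL)
    (fun _ => PicLoc.isInvertible_pullback g hO) (fun _ => hp) F hF hd
  rw [← Nakai.D_replicate, ← Nakai.D_replicate, List.replicate_one, List.replicate_one] at h1
  rw [h1, ← Nakai.degFlat_one k F hF hd, Nakai.D_one, Nakai.D_one,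
    CurveRR.euler_eq_of_iso (PicGrp.tensorModIso (Iso.refl F) e)]

/-- **Numerically trivial invertible modules on normal proper schemes are torsion.** -/
theorem exists_pow_trivial (p : ℕ) [Fact (Nat.Prime p)] [CharP k p]
    (halg : ∀ x : k, ∃ n : ℕ, 0 < n ∧ x ^ (p ^ n) = x) (hX : Pi1.IsNormalScheme X)
    {L : X.Modules} (hL : PicF.IsInvertible L) (hnum : Pic13.IsNumEquivZero k X L) :
    ∃ d : ℕ, 0 < d ∧ Nonempty (CohB1.tensorPow L d ≅ Coh.structureModule X) := by
  haveI := CurveRR.isNoetherian_of_proper k X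
  haveI : IsReduced X := by
    haveI : ∀ x : X, _root_.IsReduced (X.presheaf.stalk x) := fun x => haveI := (hX x).1; inferInstance
    exact isReduced_of_isReduced_stalk X
  obtain ⟨X', π, hqp, hπp, hs, ⟨U, hU, hiso⟩, hred, -, -⟩ :=
    Groth.Agent.S4415.result (X ↘ Spec (CommRingCat.of k)) (Or.inl inferInstance)
  haveI : IsProper π := (Groth.Agent.SymAlg.isProper_and_ftData_of_isProjective hπp).1
  haveI := hs
  haveI := hiso
  haveI : IsReduced X' := hred inferInstance
  letI : X'.Over (Spec (CommRingCat.of k)) := ⟨π ≫ (X ↘ Spec (CommRingCat.of k))⟩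
  haveI : IsProper (X' ↘ Spec (CommRingCat.of k)) := inferInstanceAs (IsProper (π ≫ (X ↘ Spec (CommRingCat.of k))))
  obtain ⟨-, -, H, hH⟩ := hqp
  obtain ⟨d, hd, hd1⟩ := exists_pow_trivial_of_ample k p halg
    ((TMul.isAmple_restrict_top_iff H).1 (hH.2 ⟨⊤, isAffineOpen_top _⟩))
    (PicLoc.isInvertible_pullback π hL) (degFlat_pullback k π rfl hL hnum)
  refine ⟨d, hd, Groth.Agent.S5683.result π (bijective_app_modification hX π U hU) _
    (TMul.isInvertible_tensorPow hL d) ?_⟩
  obtain ⟨a⟩ := TMul.nonempty_pullPowIso π L d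
  obtain ⟨b⟩ := Nakai.iso_of_cl (show PicF.cl (CohB1.tensorPow ((Scheme.Modules.pullback π).obj L) d) =
    PicF.cl (Coh.structureModule X') by rw [Nakai.cl_pow, hd1, Nakai.cl_one])
  exact ⟨a.symm ≪≫ b⟩

/-- Normality descends from a base change to an extension field. -/
theorem isNormalScheme_of_bc {f : X ⟶ Spec (CommRingCat.of k)} (K : Type u) [Field K] [Algebra k K]
    (h : Pi1.IsNormalScheme (pullback f (Spec.map (CommRingCat.ofHom (algebraMap k K))))) :
    Pi1.IsNormalScheme X := fun x => by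
  let s := Spec.map (CommRingCat.ofHom (algebraMap k K))
  haveI : Flat s := by
    rw [HasRingHomProperty.Spec_iff (P := @Flat)]
    show (algebraMap k K).Flat
    rw [RingHom.flat_algebraMap_iff]
    infer_instance
  haveI : Surjective s := ⟨fun y => ⟨(⟨⊥, Ideal.isPrime_bot⟩ : PrimeSpectrum K),
    haveI : Subsingleton (Spec (CommRingCat.of k)) := inferInstanceAs (Subsingleton (PrimeSpectrum k))
    Subsingleton.elim _ _⟩⟩
  let q := pullback.fst f s
  haveI : Flat q := MorphismProperty.pullback_fst _ _ inferInstance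
  haveI : Surjective q := MorphismProperty.pullback_fst _ _ inferInstance
  obtain ⟨y, rfl⟩ := q.surjective x
  obtain ⟨_, _⟩ := h y
  letI := (q.stalkMap y).hom.toAlgebra
  haveI : IsLocalHom (algebraMap (X.presheaf.stalk (q y)) ((pullback f s).presheaf.stalk y)) :=
    inferInstanceAs (IsLocalHom (q.stalkMap y).hom)
  haveI : Module.Flat (X.presheaf.stalk (q y)) ((pullback f s).presheaf.stalk y) := Flat.stalkMap q y
  haveI : Module.FaithfullyFlat (X.presheaf.stalk (q y)) ((pullback f s).presheaf.stalk y) :=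
    Module.FaithfullyFlat.of_flat_of_isLocalHom
  exact FlatDepth.isIntegrallyClosed_descent (S := (pullback f s).presheaf.stalk y)

end Groth.Agent.PicTors
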