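import Groth.Agent.PicTors.Descend
import Groth.Agent.AVFin.Finite
import Groth.Agent.Nakai.UnifReg
import Groth.Agent.Nakai.FlatGrowth
import Groth.Agent.PicBdd.NumBdd
import Groth.Agent.AmpleEmb.Closed
import Groth.Agent.CurveRR.TmapR
import Groth.Agent.CurveSq.Ses

/-!
# Numerically trivial invertible modules on projective schemes over fields algebraic over finite fields are torsion
-/

set_option autoImplicit false
set_option backward.isDefEq.respectTransparency false
set_option backward.isDefEq.respectTransparency.types false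
set_option linter.style.haveILetI false
set_option linter.unusedSectionVars false
set_option maxHeartbeats 1000000

universe u

open CategoryTheory CategoryTheory.Limits AlgebraicGeometry

noncomputable section

namespace Groth.Agent.PicTors

attribute [local instance] Groth.Agent.Nakai.clMonoid

/-- Tensor powers starting at the first one. -/
def powS {X : Scheme.{u}} (M : X.Modules) : ℕ → X.Modules
  | 0 => M
  | j + 1 => CohB1.tensorMod (powS M j) M

theorem isCoh_powS {X : Scheme.{u}} [IsNoetherian X] {M : X.Modules} (hM : Coh.IsCoh M) : ∀ j, Coh.IsCoh (powS M j)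
  | 0 => hM
  | j + 1 => CurveRR.isCoh_tensor' (isCoh_powS hM j) hM

theorem nonempty_pull_powS {X Y : Scheme.{u}} (f : Y ⟶ X) {M : X.Modules} {N : Y.Modules}
    (e : (Scheme.Modules.pullback f).obj M ≅ N) :
    ∀ j, Nonempty ((Scheme.Modules.pullback f).obj (powS M j) ≅ powS N j)
  | 0 => ⟨e⟩
  | j + 1 => by
    obtain ⟨a⟩ := nonempty_pull_powS f e j
    obtain ⟨t⟩ := TMul.nonempty_pullTensorIso f (powS M j) M
    exact ⟨t.symm ≪≫ PicGrp.tensorModIso a e⟩

theorem nonempty_powS_push {X P : Scheme.{u}} (i : X ⟶ P) [IsClosedImmersion i] (L : X.Modules) :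
    ∀ j, Nonempty (powS ((Scheme.Modules.pushforward i).obj L) j ≅
      (Scheme.Modules.pushforward i).obj (CohB1.tensorPow L (j + 1)))
  | 0 => ⟨(Scheme.Modules.pushforward i).mapIso (TMul.leftUnitIso L).symm⟩
  | j + 1 => by
    obtain ⟨a⟩ := nonempty_powS_push i L j
    haveI := GrothSS.isIso_counit_push i
    exact ⟨PicGrp.tensorModIso a (Iso.refl _) ≪≫
      KFlat.projFormulaIso i (CohB1.tensorPow L (j + 1)) ((Scheme.Modules.pushforward i).obj L) ≪≫
      (Scheme.Modules.pushforward i).mapIso (PicGrp.tensorModIso (Iso.refl _)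
        ((asIso (Scheme.Modules.pullbackPushforwardAdjunction i).counit).app L))⟩

variable {X : Scheme.{u}} (k : Type u) [Field k] [X.Over (Spec (CommRingCat.of k))] [IsProper (X ↘ Spec (CommRingCat.of k))]

/-- Numerically trivial invertible modules on a projective scheme are torsion. -/
theorem exists_pow_trivial_of_ample (p : ℕ) [Fact (Nat.Prime p)] [CharP k p]
    (halg : ∀ x : k, ∃ n : ℕ, 0 < n ∧ x ^ (p ^ n) = x) {H : X.Modules} (hH : CohB1.IsAmple H)
    {L : X.Modules} (hL : PicF.IsInvertible L) (hf : Nakai.DegFlat k L) :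
    ∃ d : ℕ, 0 < d ∧ PicF.cl L ^ d = 1 := by
  classical
  haveI := CurveRR.isNoetherian_of_proper k X
  obtain ⟨n, -, i, -, hi, hic, -⟩ := AmpleEmb.exists_closedImmersion_projSpace (X ↘ Spec (CommRingCat.of k)) hH
  haveI := hic
  haveI : IsNoetherian (CohB1.ProjSpace n k) := CohFinite.isNoetherian_projSpace n k
  have hLc : Coh.IsCoh L := CurveSq.isCoh_invertible hL
  haveI := hLc.1
  obtain ⟨F, _, _, _, σ, M', hσ, hM', ⟨e⟩⟩ := exists_descend p k halg n
    (QC.isCoh_pushforward_of_isFinite i hLc.2 : Coh.IsCoh ((Scheme.Modules.pushforward i).obj L))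
  let r := i ≫ σ.hom
  have hr : r ≫ CohB1.ProjSpace.toSpec n k = X ↘ Spec (CommRingCat.of k) := by
    simp only [r, Category.assoc, hσ, hi]
  let e₁ : (Scheme.Modules.pullback (MumBound.bcg F k n)).obj M' ≅ (Scheme.Modules.pushforward r).obj L :=
    e ≪≫ (Scheme.Modules.pushforwardComp i σ.hom).app L
  haveI : IsNoetherian (CohB1.ProjSpace n F) := CohFinite.isNoetherian_projSpace n F
  have hO : Coh.IsCoh (Coh.structureModule X) := CurveSq.isCoh_invertible TMul.isInvertible_structureModule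
  have hN : ∀ j : ℕ, PicF.IsInvertible (CohB1.tensorPow L j) := TMul.isInvertible_tensorPow hL
  have hNf : ∀ j : ℕ, Nakai.DegFlat k (CohB1.tensorPow L j) := fun j => Nakai.DegFlat.pow k hf hL j
  obtain ⟨m, hm⟩ := Nakai.exists_regular k r hr hO
  let P := (Scheme.Modules.pullback r).obj (Twist.twistProjSpace n k 1)
  have hP : CohB1.IsAmple P := TMul.isAmple_pullback_of_isAffineHom r (Intersect.isAmple_twistProj_one n k)
  obtain ⟨d, hd⟩ := Nakai.exists_dim_bound k (X := X)
  obtain ⟨C, -, hC⟩ := Nakai.flatBound k hP d _ hO ((topologicalKrullDim_subspace_le X _).trans hd)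
  have key : ∀ j : ℕ, Curv2.IsMRegular F n (powS M' j) m ∧
      CurveRR.h F (CohB1.tensorMod (powS M' j) (Twist.twistProjSpace n F m)) 0 ≤ ⌈C * ((m : ℚ) + 1) ^ d⌉₊ := by
    intro j
    obtain ⟨a⟩ := nonempty_pull_powS (MumBound.bcg F k n) e₁ j
    obtain ⟨b⟩ := nonempty_powS_push r L j
    let N := CohB1.tensorPow L (j + 1)
    have hNc : Coh.IsCoh N := CurveSq.isCoh_invertible (hN _)
    haveI := hNc.1
    have hreg : PnReg.Reg ((Scheme.Modules.pullback (MumBound.bcg F k n)).obj (powS M' j)) (m : ℤ) := by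
      refine PnReg.reg_of_iso (a ≪≫ b).symm fun q hq => ?_
      obtain ⟨t⟩ := SerrePn.nonempty_hh_pushTwist k r hr N (CohFinite.isInvertible_twist n k ((m : ℤ) - q)) q
      refine t.toEquiv.subsingleton_congr.1 ?_
      haveI : Subsingleton (Coh.HH X (CohB1.tensorMod (CohB1.tensorMod (Coh.structureModule X) N)
          ((Scheme.Modules.pullback r).obj (Twist.twistProjSpace n k ((m : ℤ) - q)))) q) := hm N (hN _) (hNf _) q hq
      exact (CohFinite.hhEquiv k (PicGrp.tensorModIso (TMul.leftUnitIso N).symm (Iso.refl _)) q).toEquiv.subsingleton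
    have hc := isCoh_powS hM' j
    refine ⟨fun q hq _ => MumBound.reg_of_bc k hc hreg q hq, ?_⟩
    obtain ⟨t⟩ := MumBound.nonempty_hh_bc k hc (m : ℤ) 0
    have h1 : CurveRR.h F (CohB1.tensorMod (powS M' j) (Twist.twistProjSpace n F m)) 0 =
        CurveRR.h k (CohB1.tensorMod ((Scheme.Modules.pushforward r).obj N) (Twist.twistProjSpace n k m)) 0 := by
      rw [← CurveRR.h_eq_of_iso (PicGrp.tensorModIso (a ≪≫ b) (Iso.refl _)) 0]
      exact ((t.finrank_eq).symm.trans Module.finrank_baseChange).symm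
    letI : (CohB1.ProjSpace n k).Over (Spec (CommRingCat.of k)) := ⟨CohB1.ProjSpace.toSpec n k⟩
    haveI : IsProper (CohB1.ProjSpace n k ↘ Spec (CommRingCat.of k)) := ProjMor.isProper_toSpec n k
    obtain ⟨u⟩ := Nakai.iso_of_cl (show PicF.cl (CohB1.tensorMod N ((Scheme.Modules.pullback r).obj
        (Twist.twistProjSpace n k m))) = PicF.cl (CohB1.tensorMod (Coh.structureModule X)
        (CohB1.tensorMod N (CohB1.tensorPow P m))) by
      rw [Nakai.cl_tensor, Nakai.cl_tensor, Nakai.cl_tensor, Nakai.cl_pow, Nakai.cl_pull_twist k r m,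
        Nakai.cl_one, one_mul, Nakai.cl_pow])
    rw [h1, Nakai.h0_push_tensor k r hr hNc.1 (CohFinite.isInvertible_twist n k m), CurveRR.h_eq_of_iso u 0]
    exact_mod_cast (hC _ (hN _) (hNf _) m).trans (Nat.le_ceil _)
  let B := ⌈C * ((m : ℚ) + 1) ^ d⌉₊
  choose J hJ G hG using fun b : Fin (B + 1) => AVFin.finite_regular F n (m : ℤ) b
  haveI : ∀ b, Finite (J b) := hJ
  have hidx : ∀ j : ℕ, ∃ s : Σ b : Fin (B + 1), J b, Nonempty (G s.1 s.2 ≅ powS M' j) := fun j => by
    obtain ⟨h1, h2⟩ := key j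
    obtain ⟨t, ht⟩ := hG ⟨_, Nat.lt_succ_of_le h2⟩ _ (isCoh_powS hM' j) h1 rfl
    exact ⟨⟨_, t⟩, ht⟩
  choose s hs using hidx
  obtain ⟨a, b, hne, hab⟩ := Finite.exists_ne_map_eq_of_infinite s
  wlog hlt : a < b generalizing a b
  · exact this b a (Ne.symm hne) hab.symm (by omega)
  obtain ⟨ea⟩ := hs a
  obtain ⟨eb⟩ := hs b
  obtain ⟨pa⟩ := nonempty_pull_powS (MumBound.bcg F k n) e₁ a
  obtain ⟨pb⟩ := nonempty_pull_powS (MumBound.bcg F k n) e₁ b
  obtain ⟨qa⟩ := nonempty_powS_push r L a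
  obtain ⟨qb⟩ := nonempty_powS_push r L b
  obtain ⟨w⟩ := GrothSS.nonempty_iso_of_push r (qa.symm ≪≫ pa.symm ≪≫
    (Scheme.Modules.pullback (MumBound.bcg F k n)).mapIso (ea.symm ≪≫ eqToIso (by rw [hab]) ≪≫ eb) ≪≫ pb ≪≫ qb)
  refine ⟨b - a, by omega, ?_⟩
  obtain ⟨L', hL', hLL'⟩ := W7Hull.exists_tensor_inverse hL
  have hu : IsUnit (PicF.cl L) := IsUnit.of_mul_eq_one _ (Nakai.cl_inv hLL')
  have h := (PicGrp.cl_eq_cl_iff _ _).2 ⟨w⟩
  rw [Nakai.cl_pow, Nakai.cl_pow] at h
  refine (hu.pow (a + 1)).mul_left_cancel ?_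
  rw [mul_one, ← pow_add, show a + 1 + (b - a) = b + 1 by omega]
  exact h.symm

end Groth.Agent.PicTors
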